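import Cfsg.Agent.Lib.Orth.Nondeg

/-!
# Five-dimensional orthogonal spaces with a distinguished non-degenerate plane

* `XFrame` : a basis `e, f, z` of the orthogonal of the plane
* `exists_xframe`, `exists_isotropic_two`, `x_transit`, `exists_refl_lift`, `exists_moveP`, `exists_moveX`
-/

set_option autoImplicit false
set_option linter.unusedSectionVars false

namespace Cfsg.Agent.Orth.LineFive

open Cfsg Matrix Module
open QuadraticMap (polar)

variable {ι : Type} [Fintype ι] [DecidableEq ι] {F : Type*} [Field F] [Fintype F]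
variable {Q : QuadraticForm F (ι → F)}

/-- A quadratic polynomial which is not zero has at most two roots. -/
theorem card_roots_le [DecidableEq F] {a b c : F} (h : ¬(a = 0 ∧ b = 0 ∧ c = 0)) :
    (Finset.univ.filter fun t : F => a + b * t + c * (t * t) = 0).card ≤ 2 := by
  open Polynomial in
  let p : F[X] := C a + C b * X + C c * (X * X)
  have hp : p ≠ 0 := fun h0 => h ⟨by simpa [p, Polynomial.coeff_C, Polynomial.coeff_X] using congrArg (fun q => q.coeff 0) h0,
    by simpa [p, ← sq, Polynomial.coeff_C, Polynomial.coeff_X, Polynomial.coeff_X_pow] using congrArg (fun q => q.coeff 1) h0,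
    by simpa [p, ← sq, Polynomial.coeff_C, Polynomial.coeff_X, Polynomial.coeff_X_pow] using congrArg (fun q => q.coeff 2) h0⟩
  refine le_trans (Finset.card_le_card (fun t ht => ?_)) ((Multiset.toFinset_card_le _).trans
    ((Polynomial.card_roots' p).trans (?_ : p.natDegree ≤ 2)))
  · rw [Multiset.mem_toFinset, Polynomial.mem_roots hp]
    simpa [p] using (Finset.mem_filter.1 ht).2
  · simp only [p]; compute_degree!

/-- A common non-root of two quadratic polynomials, outside one further value. -/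
theorem exists_avoid (h5 : 5 ≤ Fintype.card F) {a b c a' b' c' : F}
    (h : ¬(a = 0 ∧ b = 0 ∧ c = 0)) (h' : ¬(a' = 0 ∧ b' = 0 ∧ c' = 0)) :
    ∃ t : F, a + b * t + c * (t * t) ≠ 0 ∧ a' + b' * t + c' * (t * t) ≠ 0 := by
  classical
  by_contra! hall
  have hs : (Finset.univ : Finset F) ⊆ (Finset.univ.filter fun t : F => a + b * t + c * (t * t) = 0) ∪
      (Finset.univ.filter fun t : F => a' + b' * t + c' * (t * t) = 0) := fun t _ => by
    by_cases ht : a + b * t + c * (t * t) = 0 <;> simp [ht]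
    exact hall t ht
  have h1 := (Finset.card_le_card hs).trans (Finset.card_union_le _ _)
  have h2 := card_roots_le h
  have h3 := card_roots_le h'
  rw [Finset.card_univ] at h1
  omega

/-- The hypotheses: five dimensions, at least five scalars, a non-degenerate plane. -/
structure Setting (Q : QuadraticForm F (ι → F)) (P : Submodule F (ι → F)) : Prop where
  good : Good Q
  two : (2 : F) ≠ 0
  five : 5 ≤ Fintype.card F
  dim : Fintype.card ι = 5
  nd : ∀ x ∈ P, x ≠ 0 → ∃ y ∈ P, polar ⇑Q x y ≠ 0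
  plane : finrank F P = 2

variable {P : Submodule F (ι → F)}

theorem Setting.perp_nd (S : Setting Q P) :
    ∀ x ∈ perpSub Q P, x ≠ 0 → ∃ y ∈ perpSub Q P, polar ⇑Q x y ≠ 0 :=
  perpSub_nondeg S.good.nd S.nd

theorem Setting.perp_dim (S : Setting Q P) : finrank F (perpSub Q P) = 3 := by
  rw [finrank_perpSub S.good.nd, S.dim, S.plane]

theorem pl_PX {p x : ι → F} (hp : p ∈ P) (hx : x ∈ perpSub Q P) : polar ⇑Q p x = 0 :=
  mem_perpSub.1 hx p hp

theorem pl_XP {p x : ι → F} (hx : x ∈ perpSub Q P) (hp : p ∈ P) : polar ⇑Q x p = 0 := by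
  rw [pl_comm]; exact pl_PX hp hx

/-- A map fixing `P` pointwise preserves its orthogonal. -/
theorem map_perp_of_map (S : Setting Q P) {h : IsoGrp Q} (hP : ∀ p ∈ P, ap h p ∈ P) :
    ∀ x ∈ perpSub Q P, ap h x ∈ perpSub Q P := perp_map_of_map hP

/-- A frame of the orthogonal of `P`. -/
structure XFrame (Q : QuadraticForm F (ι → F)) (P : Submodule F (ι → F)) (e f z : ι → F) : Prop where
  me : e ∈ perpSub Q P
  mf : f ∈ perpSub Q P
  mz : z ∈ perpSub Q P
  hp : HPair Q e f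
  ez : polar ⇑Q e z = 0
  fz : polar ⇑Q f z = 0
  qz : Q z ≠ 0
  dec : ∀ x ∈ perpSub Q P,
    x = polar ⇑Q f x • e + polar ⇑Q e x • f + (polar ⇑Q z x / (2 * Q z)) • z

theorem XFrame.swap {e f z : ι → F} (h : XFrame Q P e f z) : XFrame Q P f e z :=
  ⟨h.mf, h.me, h.mz, h.hp.swap, h.fz, h.ez, h.qz, fun x hx => by
    conv_lhs => rw [h.dec x hx]
    abel⟩

theorem XFrame.map {e f z : ι → F} (S : Setting Q P) (hF : XFrame Q P e f z) {h : IsoGrp Q}
    (hP : ∀ p ∈ P, ap h p ∈ P) : XFrame Q P (ap h e) (ap h f) (ap h z) := by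
  have hX := map_perp_of_map S hP
  refine ⟨hX e hF.me, hX f hF.mf, hX z hF.mz, hF.hp.map h, by rw [polar_ap, hF.ez],
    by rw [polar_ap, hF.fz], by rw [Q_ap]; exact hF.qz, fun x hx => ?_⟩
  obtain ⟨y, hy, rfl⟩ : ∃ y ∈ perpSub Q P, ap h y = x := by
    refine ⟨ap h⁻¹ x, ?_, ap_ap_inv h x⟩
    refine mem_perpSub.2 fun p hp => ?_
    rw [← polar_ap h, ap_ap_inv]
    exact pl_PX (hP p hp) hx
  conv_lhs => rw [hF.dec y hy]
  simp only [map_add, map_smul, polar_ap, Q_ap]

theorem XFrame.zero_of_orth {e f z : ι → F} (hF : XFrame Q P e f z) {x : ι → F}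
    (hx : x ∈ perpSub Q P) (h1 : polar ⇑Q e x = 0) (h2 : polar ⇑Q f x = 0)
    (h3 : polar ⇑Q z x = 0) : x = 0 := by
  rw [hF.dec x hx, h1, h2, h3]; simp

/-- Frames exist. -/
theorem exists_xframe (S : Setting Q P) {e : ι → F} (he : e ∈ perpSub Q P) (he0 : e ≠ 0)
    (hQe : Q e = 0) : ∃ f z, XFrame Q P e f z := by
  set X := perpSub Q P with hXd
  obtain ⟨y, hy, hey⟩ := S.perp_nd e he he0
  obtain ⟨y', hy'X, h1⟩ : ∃ y' ∈ X, polar ⇑Q e y' = 1 :=
    ⟨(polar ⇑Q e y)⁻¹ • y, X.smul_mem _ hy, by rw [pl_smul_right, inv_mul_cancel₀ hey]⟩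
  set f := y' - Q y' • e with hf
  have hfX : f ∈ X := X.sub_mem hy'X (X.smul_mem _ he)
  have hp : HPair Q e f := by
    refine ⟨hQe, ?_, ?_⟩
    · rw [hf, Q_sub, Q_smul, pl_smul_right, hQe, pl_comm, h1]; ring
    · rw [hf, pl_sub_right, pl_smul_right, pl_self, hQe, h1]; ring
  -- the line orthogonal to the pair
  have hspan : ∀ x ∈ X, x - polar ⇑Q f x • e - polar ⇑Q e x • f ∈ X ⊓ perp Q e f := fun x hx =>
    ⟨X.sub_mem (X.sub_mem hx (X.smul_mem _ he)) (X.smul_mem _ hfX), hp.wPart_mem x⟩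
  obtain ⟨z, hz, hz0⟩ : ∃ z ∈ X ⊓ perp Q e f, z ≠ 0 := by
    by_contra! hall
    have hle : X ≤ (F ∙ e) ⊔ (F ∙ f) := fun x hx => by
      have h0 := hall _ (hspan x hx)
      rw [sub_sub, sub_eq_zero] at h0
      rw [h0]
      exact Submodule.add_mem_sup (Submodule.smul_mem _ _ (Submodule.mem_span_singleton_self e))
        (Submodule.smul_mem _ _ (Submodule.mem_span_singleton_self f))
    have hd := Submodule.finrank_mono hle
    have h2 := Submodule.finrank_sup_add_finrank_inf_eq (F ∙ e) (F ∙ f)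
    have hf0 : f ≠ 0 := hp.swap.ne_zero
    rw [finrank_span_singleton he0, finrank_span_singleton hf0] at h2
    rw [S.perp_dim] at hd
    omega
  obtain ⟨he_z, hf_z⟩ := mem_perp.1 hz.2
  -- it is exactly a line
  have hline : ∀ w ∈ X ⊓ perp Q e f, w ∈ F ∙ z := by
    intro w hw
    by_contra hwz
    let s : Fin 4 → ι → F := ![e, f, z, w]
    have hli : LinearIndependent F s := by
      rw [Fintype.linearIndependent_iff]
      intro g hg
      rw [Fin.sum_univ_four] at hg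
      simp only [s, Matrix.cons_val_zero, Matrix.cons_val_one, Matrix.cons_val] at hg
      obtain ⟨he_w, hf_w⟩ := mem_perp.1 hw.2
      have c0 := congrArg (polar ⇑Q f) hg
      simp only [pl_add_right, pl_smul_right, pl_comm Q f e, hp.pf, pl_self, hp.qf, hf_z, hf_w,
        pl_zero_right] at c0
      have c1 := congrArg (polar ⇑Q e) hg
      simp only [pl_add_right, pl_smul_right, hp.pf, pl_self, hp.qe, he_z, he_w,
        pl_zero_right] at c1
      have g0 : g 0 = 0 := by linear_combination c0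
      have g1 : g 1 = 0 := by linear_combination c1
      rw [g0, g1, zero_smul, zero_smul, zero_add, zero_add] at hg
      have g3 : g 3 = 0 := by
        by_contra g3
        refine hwz (Submodule.mem_span_singleton.2 ⟨-((g 3)⁻¹ * g 2), ?_⟩)
        rw [neg_smul, mul_smul, eq_neg_of_add_eq_zero_left hg, smul_neg, inv_smul_smul₀ g3, neg_neg]
      rw [g3, zero_smul, add_zero, smul_eq_zero] at hg
      intro i
      fin_cases i
      · exact g0
      · exact g1
      · exact hg.resolve_right hz0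
      · exact g3
    have hle : Submodule.span F (Set.range s) ≤ X := Submodule.span_le.2 (by
      rintro _ ⟨i, rfl⟩
      fin_cases i
      · exact he
      · exact hfX
      · exact hz.1
      · exact hw.1)
    have hd := Submodule.finrank_mono hle
    rw [finrank_span_eq_card hli, Fintype.card_fin, S.perp_dim] at hd
    omega
  have hdec : ∀ x ∈ X, ∃ c : F, x = polar ⇑Q f x • e + polar ⇑Q e x • f + c • z := fun x hx => by
    obtain ⟨c, hc⟩ := Submodule.mem_span_singleton.1 (hline _ (hspan x hx))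
    exact ⟨c, by rw [hc]; abel⟩
  have hzv : ∀ x ∈ X, ∀ c : F, x = polar ⇑Q f x • e + polar ⇑Q e x • f + c • z →
      polar ⇑Q z x = c * (2 * Q z) := fun x _ c hc => by
    rw [hc, pl_add_right, pl_add_right, pl_smul_right, pl_smul_right, pl_smul_right, pl_self,
      pl_comm Q z e, pl_comm Q z f, he_z, hf_z]
    ring
  have hqz : Q z ≠ 0 := fun h0 => by
    obtain ⟨v, hv, hzv'⟩ := S.perp_nd z hz.1 hz0
    obtain ⟨c, hc⟩ := hdec v hv
    exact hzv' (by rw [hzv v hv c hc, h0, mul_zero, mul_zero])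
  refine ⟨f, z, he, hfX, hz.1, hp, he_z, hf_z, hqz, fun x hx => ?_⟩
  obtain ⟨c, hc⟩ := hdec x hx
  rw [hzv x hx c hc, mul_div_cancel_right₀ _ (mul_ne_zero S.two hqz)]
  exact hc

theorem exists_xframe' (S : Setting Q P) : ∃ e f z, XFrame Q P e f z := by
  obtain ⟨e, he, he0, hQe⟩ := exists_ne_zero_Q_eq S.perp_nd (by rw [S.perp_dim]) (0 : F)
  obtain ⟨f, z, h⟩ := exists_xframe S he he0 hQe
  exact ⟨e, f, z, h⟩

theorem eich_mem_omega (S : Setting Q P) (u w : ι → F) : eich Q u w ∈ Omega F ⇑Q :=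
  eichGen_le_omega S.good.nd (by rw [S.dim]; omega) (.inr (by rw [S.dim])) (eich_mem_eichGen u w)

theorem eich_fix_P {u w p : ι → F} (hu : u ∈ perpSub Q P) (hw : w ∈ perpSub Q P) (hp : p ∈ P) :
    ap (eich Q u w) p = p := by
  by_cases h : Q u = 0 ∧ polar ⇑Q u w = 0
  · rw [eich_ap h.1 h.2, pl_XP hu hp, pl_XP hw hp]; simp
  · rw [eich_eq_one h, ap_one]

theorem refl_fix_P {v p : ι → F} (hv : v ∈ perpSub Q P) (hp : p ∈ P) : ap (refl Q v) p = p :=
  refl_ap_of_orth Q (pl_XP hv hp)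

/-- A singular point of `P^⊥` off two given hyperplanes. -/
theorem exists_isotropic_two (S : Setting Q P) {m m' : ι → F} (hm : m ∈ perpSub Q P)
    (hm' : m' ∈ perpSub Q P) (h0 : m ≠ 0) (h0' : m' ≠ 0) :
    ∃ u ∈ perpSub Q P, u ≠ 0 ∧ Q u = 0 ∧ polar ⇑Q u m ≠ 0 ∧ polar ⇑Q u m' ≠ 0 := by
  obtain ⟨e, f, z, hF⟩ := exists_xframe' S
  have hfe : polar ⇑Q f e = 1 := by rw [pl_comm]; exact hF.hp.pf
  have hfz : polar ⇑Q f z = 0 := hF.fz
  have hap : ∀ t : F, ap (eich Q f (t • z)) e = e + t • z - (t * t * Q z) • f := fun t => by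
    rw [eich_ap hF.hp.qf (by rw [pl_smul_right, hfz, mul_zero]), hfe, pl_smul_left, pl_comm Q z e,
      hF.ez, Q_smul]
    module
  have hpl : ∀ (t : F) (v : ι → F), polar ⇑Q (ap (eich Q f (t • z)) e) v =
      polar ⇑Q e v + polar ⇑Q z v * t + -(Q z * polar ⇑Q f v) * (t * t) := fun t v => by
    rw [hap, pl_sub_left, pl_add_left, pl_smul_left, pl_smul_left]; ring
  have hne : ∀ v ∈ perpSub Q P, v ≠ 0 →
      ¬(polar ⇑Q e v = 0 ∧ polar ⇑Q z v = 0 ∧ -(Q z * polar ⇑Q f v) = 0) := by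
    rintro v hv hv0 ⟨h1, h2, h3⟩
    exact hv0 (hF.zero_of_orth hv h1 ((mul_eq_zero.1 (neg_eq_zero.1 h3)).resolve_left hF.qz) h2)
  obtain ⟨t, ht, ht'⟩ := exists_avoid S.five (hne m hm h0) (hne m' hm' h0')
  refine ⟨ap (eich Q f (t • z)) e, map_perp_of_map S (fun p hp => by
    rw [eich_fix_P hF.mf (Submodule.smul_mem _ _ hF.mz) hp]; exact hp) e hF.me,
    fun h => hF.hp.ne_zero (ap_inj _ (h.trans (map_zero _).symm)), by rw [Q_ap, hF.hp.qe],
    by rw [hpl]; exact ht, by rw [hpl]; exact ht'⟩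

/-- Transitivity on a sphere of `P^⊥`. -/
theorem x_transit (S : Setting Q P) {y y' : ι → F} (hy : y ∈ perpSub Q P) (hy' : y' ∈ perpSub Q P)
    (hQ : Q y' = Q y) (h0 : Q y ≠ 0) :
    ∃ h ∈ Omega F ⇑Q, (∀ p ∈ P, ap h p = p) ∧ ap h y = y' := by
  set X := perpSub Q P with hX
  by_cases hd : Q (y - y') = 0
  · have hs : Q (y + y') = Q ((2 : F) • y') := by
      rw [Q_sub] at hd
      rw [Q_add, Q_smul]
      linear_combination -hd - 2 * hQ
    have hs0 : Q ((2 : F) • y') ≠ 0 := by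
      rw [Q_smul, hQ]; exact mul_ne_zero (mul_ne_zero S.two S.two) h0
    refine ⟨refl Q ((2 : F) • y') * refl Q (y + y'), refl_pair_mem_omega S.good hs0 hs,
      fun p hp => by
        rw [ap_mul, refl_fix_P (X.add_mem hy hy') hp, refl_fix_P (X.smul_mem _ hy') hp], ?_⟩
    rw [ap_mul, refl_smul Q S.two]
    have e1 : ap (refl Q (y + y')) y = -y' := by
      have : (Q (y + y'))⁻¹ * polar ⇑Q (y + y') y = 1 := by
        rw [pl_add_left, pl_self, pl_comm Q y' y]
        have : 2 * Q y + polar ⇑Q y y' = Q (y + y') := by rw [Q_add, hQ]; ring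
        rw [this, inv_mul_cancel₀ (hs ▸ hs0)]
      rw [refl_ap, this, one_smul]; abel
    have hy0 : Q y' ≠ 0 := hQ ▸ h0
    rw [e1, map_neg, refl_ap_self Q hy0, neg_neg]
  · have hperp : ∀ x ∈ X ⊓ LinearMap.ker (Q.polarBilin y'), x ≠ 0 →
        ∃ v ∈ X ⊓ LinearMap.ker (Q.polarBilin y'), polar ⇑Q x v ≠ 0 := by
      intro x hx hx0
      obtain ⟨v, hv, hxv⟩ := S.perp_nd x hx.1 hx0
      have hxy : polar ⇑Q y' x = 0 := hx.2
      refine ⟨v - (polar ⇑Q y' v / (2 * Q y')) • y', ⟨X.sub_mem hv (X.smul_mem _ hy'), ?_⟩, ?_⟩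
      · show polar ⇑Q y' _ = 0
        rw [pl_sub_right, pl_smul_right, pl_self,
          div_mul_cancel₀ _ (mul_ne_zero S.two (hQ ▸ h0)), sub_self]
      · rw [pl_sub_right, pl_smul_right, pl_comm Q x y', hxy]; simpa using hxv
    obtain ⟨a, ha, hQa⟩ := exists_Q_eq_in (Q := Q) _ hperp (by
      have h1 := Submodule.finrank_sup_add_finrank_inf_eq X (LinearMap.ker (Q.polarBilin y'))
      have h2 := LinearMap.finrank_range_add_finrank_ker (Q.polarBilin y')
      have h3 := Submodule.finrank_le (LinearMap.range (Q.polarBilin y'))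
      have h4 := Submodule.finrank_le (X ⊔ LinearMap.ker (Q.polarBilin y'))
      rw [Module.finrank_self] at h3
      rw [finrank_space, S.dim] at h2 h4
      rw [S.perp_dim] at h1
      omega) (Q (y - y'))
    refine ⟨refl Q a * refl Q (y - y'), refl_pair_mem_omega S.good (hQa ▸ hd) hQa.symm,
      fun p hp => by rw [ap_mul, refl_fix_P (X.sub_mem hy hy') hp, refl_fix_P ha.1 hp], ?_⟩
    have e1 : ap (refl Q (y - y')) y = y' := by
      have h2 : polar ⇑Q (y - y') y = Q (y - y') := by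
        rw [Q_sub, pl_sub_left, pl_self, pl_comm Q y' y, hQ]; ring
      rw [refl_ap, h2, inv_mul_cancel₀ hd, one_smul, sub_sub_cancel]
    rw [ap_mul, e1, refl_ap_of_orth Q (by rw [pl_comm]; exact ha.2)]

/-- An element fixing `P` pointwise which exchanges the two lines of a frame. -/
theorem XFrame.exists_flip {e f z : ι → F} (S : Setting Q P) (hF : XFrame Q P e f z) :
    ∃ k ∈ Omega F ⇑Q, (∀ p ∈ P, ap k p = p) ∧ ap k e = (-(Q z)⁻¹) • f ∧ ap k f = (-Q z) • e ∧
      ap k z = -z := by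
  set w := f + Q z • e with hw
  have hfe : polar ⇑Q f e = 1 := by rw [pl_comm]; exact hF.hp.pf
  have hQw : Q w = Q z := by
    rw [hw, Q_add, Q_smul, pl_smul_right, hF.hp.qe, hF.hp.qf, hfe]; ring
  refine ⟨refl Q w * refl Q z, refl_pair_mem_omega S.good (hQw ▸ hF.qz) hQw.symm, fun p hp => by
      rw [ap_mul, refl_fix_P hF.mz hp,
        refl_fix_P (Submodule.add_mem _ hF.mf (Submodule.smul_mem _ _ hF.me)) hp], ?_, ?_, ?_⟩
  · rw [ap_mul, refl_ap_of_orth Q (v := z) (x := e) (by rw [pl_comm]; exact hF.ez), refl_ap, hQw, hw, pl_add_left,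
      pl_smul_left, pl_self, hF.hp.qe, hfe, smul_add, smul_smul]
    field_simp [hF.qz]
    simp [hF.qz]
    try module
  · rw [ap_mul, refl_ap_of_orth Q (v := z) (x := f) (by rw [pl_comm]; exact hF.fz), refl_ap, hQw, hw, pl_add_left,
      pl_smul_left, pl_self, hF.hp.qf, hF.hp.pf, smul_add, smul_smul]
    field_simp [hF.qz]
    simp [hF.qz]
    try module
  · rw [ap_mul, refl_ap_self Q hF.qz, map_neg, refl_ap_of_orth Q (v := w) (x := z) (by
      rw [hw, pl_add_left, pl_smul_left, hF.fz, hF.ez]; ring)]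

/-- A reflection of `P` extends to an element of `Ω` rescaling `e`. -/
theorem XFrame.exists_refl_lift {e f z : ι → F} (S : Setting Q P) (hF : XFrame Q P e f z)
    {a : ι → F} (ha : a ∈ P) (h0 : Q a ≠ 0) :
    ∃ h ∈ Omega F ⇑Q, (∀ p ∈ P, ap h p = ap (refl Q a) p) ∧
      ∃ c : F, c ≠ 0 ∧ ap h e = c • e := by
  obtain ⟨k, hk, hkP, -, hkf, -⟩ := hF.exists_flip S
  set b := e + Q a • f with hb
  have hfe : polar ⇑Q f e = 1 := by rw [pl_comm]; exact hF.hp.pf
  have hQb : Q b = Q a := by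
    rw [hb, Q_add, Q_smul, pl_smul_right, hF.hp.qe, hF.hp.qf, hF.hp.pf]; ring
  have hbX : b ∈ perpSub Q P := Submodule.add_mem _ hF.me (Submodule.smul_mem _ _ hF.mf)
  refine ⟨k * (refl Q a * refl Q b), mul_mem hk (refl_pair_mem_omega S.good h0 hQb),
    fun p hp => ?_, Q a * Q z, mul_ne_zero h0 hF.qz, ?_⟩
  · rw [ap_mul, ap_mul, refl_fix_P hbX hp, hkP _ (refl_ap_mem ha hp)]
  · have e1 : ap (refl Q b) e = (-Q a) • f := by
      rw [refl_ap, hQb, hb, pl_add_left, pl_smul_left, pl_self, hF.hp.qe, hfe, smul_add, smul_smul]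
      field_simp [h0]
      simp [h0]
      try module
    rw [ap_mul, ap_mul, e1, map_smul, refl_ap_of_orth Q (pl_PX ha hF.mf), map_smul, hkf, smul_smul,
      neg_mul_neg]

/-- A non-singular vector of `P` whose reflection moves a given point. -/
theorem exists_move_vec (S : Setting Q P) {p : ι → F} (hp : p ∈ P) (hp0 : p ≠ 0) :
    ∃ a ∈ P, Q a ≠ 0 ∧ polar ⇑Q a p ≠ 0 ∧ a ∉ F ∙ p := by
  obtain ⟨w, hw, hwp⟩ : ∃ w ∈ P, w ∉ F ∙ p := by
    by_contra! hall
    have := Submodule.finrank_mono (show P ≤ F ∙ p from hall)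
    rw [S.plane, finrank_span_singleton hp0] at this
    omega
  obtain ⟨y, hy, hyp, hyn⟩ : ∃ y ∈ P, polar ⇑Q y p ≠ 0 ∧ y ∉ F ∙ p := by
    by_cases h : polar ⇑Q w p = 0
    · refine ⟨w + p, P.add_mem hw hp, fun h1 => ?_, fun h1 => hwp ?_⟩
      · rw [pl_add_left, h, zero_add] at h1
        obtain ⟨v, hv, hpv⟩ := S.nd p hp hp0
        have hv' : v ∈ (F ∙ p) ⊔ (F ∙ w) := by
          have hle : (F ∙ p) ⊔ (F ∙ w) ≤ P := sup_le ((Submodule.span_singleton_le_iff_mem _ _).2 hp)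
            ((Submodule.span_singleton_le_iff_mem _ _).2 hw)
          have hlt : (F ∙ p) < (F ∙ p) ⊔ (F ∙ w) := lt_of_le_of_ne le_sup_left fun he =>
            hwp (he ▸ Submodule.mem_sup_right (Submodule.mem_span_singleton_self w))
          have h2 := Submodule.finrank_lt_finrank_of_lt hlt
          rw [finrank_span_singleton hp0] at h2
          rw [Submodule.eq_of_le_of_finrank_le hle (by rw [S.plane]; omega)]
          exact hv
        obtain ⟨_, hA, _, hB, rfl⟩ := Submodule.mem_sup.1 hv'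
        obtain ⟨s, rfl⟩ := Submodule.mem_span_singleton.1 hA
        obtain ⟨t, rfl⟩ := Submodule.mem_span_singleton.1 hB
        rw [pl_add_right, pl_smul_right, pl_smul_right, h1, pl_comm Q p w, h] at hpv
        simp at hpv
      · simpa using Submodule.sub_mem _ h1 (Submodule.mem_span_singleton_self p)
    · exact ⟨w, hw, h, hwp⟩
  obtain ⟨t, ht, ht'⟩ := exists_avoid S.five (a := Q y) (b := polar ⇑Q y p) (c := Q p)
    (a' := polar ⇑Q y p) (b' := 2 * Q p) (c' := 0) (fun h => hyp h.2.1) (fun h => hyp h.1)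
  refine ⟨y + t • p, P.add_mem hy (P.smul_mem _ hp), ?_, ?_, fun h => hyn ?_⟩
  · rw [Q_add, Q_smul, pl_smul_right]; convert ht using 1; ring
  · rw [pl_add_left, pl_smul_left, pl_self]; convert ht' using 1; ring
  · simpa using Submodule.sub_mem _ h (Submodule.smul_mem _ t (Submodule.mem_span_singleton_self p))

theorem refl_move {a p : ι → F} (h0 : Q a ≠ 0) (hap : polar ⇑Q a p ≠ 0) (han : a ∉ F ∙ p) :
    ap (refl Q a) p ∉ F ∙ p := fun h => han (by
  rw [refl_ap, Submodule.sub_mem_iff_right _ (Submodule.mem_span_singleton_self p)] at h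
  exact (Submodule.smul_mem_iff _ (mul_ne_zero (inv_ne_zero h0) hap)).1 h)

/-- An element of `Ω` stabilising `P` moving one point of it off another. -/
theorem exists_moveP (S : Setting Q P) {p p' : ι → F} (hp : p ∈ P) (hp0 : p ≠ 0) (hp'0 : p' ≠ 0) :
    ∃ h ∈ Omega F ⇑Q, (∀ x ∈ P, ap h x ∈ P) ∧ ap h p ∉ F ∙ p' := by
  by_cases hin : p ∈ F ∙ p'
  · obtain ⟨e, f, z, hF⟩ := exists_xframe' S
    obtain ⟨a, ha, h0, hap, han⟩ := exists_move_vec S hp hp0
    obtain ⟨h, hh, hhP, -⟩ := hF.exists_refl_lift S ha h0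
    refine ⟨h, hh, fun x hx => by rw [hhP x hx]; exact refl_ap_mem ha hx, fun hm => ?_⟩
    have hspan : (F ∙ p) = (F ∙ p') := by
      obtain ⟨c, rfl⟩ := Submodule.mem_span_singleton.1 hin
      exact Submodule.span_singleton_smul_eq (IsUnit.mk0 c fun hc => hp0 (by rw [hc, zero_smul])) p'
    rw [← hspan, hhP p hp] at hm
    exact refl_move h0 hap han hm
  · exact ⟨1, one_mem _, fun x hx => by rw [ap_one]; exact hx, by rw [ap_one]; exact hin⟩

/-- Moving a point of `P^⊥` off a point and off an affine hyperplane. -/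
theorem exists_moveX (S : Setting Q P) {x1 y : ι → F} (hx1 : x1 ∈ perpSub Q P) (hx0 : x1 ≠ 0)
    (hy : y ∈ perpSub Q P) (hy0 : y ≠ 0) (σ : F) :
    ∃ h ∈ Omega F ⇑Q, (∀ p ∈ P, ap h p = p) ∧ ap h x1 ∉ F ∙ y ∧ polar ⇑Q (ap h x1) y ≠ σ := by
  obtain ⟨e, he, he0, hQe, hex, -⟩ := exists_isotropic_two S hx1 hx1 hx0 hx0
  obtain ⟨f₀, z₀, hF₀⟩ := exists_xframe S he he0 hQe
  -- adapt the second line
  obtain ⟨f, z, hF, hfx⟩ : ∃ f z, XFrame Q P e f z ∧ polar ⇑Q f x1 ≠ 0 := by
    have hez : ∀ t : F, polar ⇑Q e (t • z₀) = 0 := fun t => by rw [pl_smul_right, hF₀.ez, mul_zero]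
    obtain ⟨t, ht, -⟩ := exists_avoid S.five (a := polar ⇑Q f₀ x1) (b := polar ⇑Q z₀ x1)
      (c := -(Q z₀ * polar ⇑Q e x1)) (a' := 1) (b' := 0) (c' := 0)
      (fun h => hex ((mul_eq_zero.1 (neg_eq_zero.1 h.2.2)).resolve_left hF₀.qz))
      (fun h => one_ne_zero h.1)
    have hfixP : ∀ p ∈ P, ap (eich Q e (t • z₀)) p ∈ P := fun p hp => by
      rw [eich_fix_P hF₀.me (Submodule.smul_mem _ _ hF₀.mz) hp]; exact hp
    refine ⟨ap (eich Q e (t • z₀)) f₀, ap (eich Q e (t • z₀)) z₀, ?_, ?_⟩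
    · have hm := hF₀.map S hfixP
      rwa [show ap (eich Q e (t • z₀)) e = e by
        rw [eich_ap hQe (hez t), pl_self, hQe, pl_smul_left, pl_comm Q z₀ e, hF₀.ez]; simp] at hm
    · rw [eich_ap hQe (hez t), hF₀.hp.pf, pl_smul_left, pl_comm Q z₀ f₀, hF₀.fz, Q_smul, pl_sub_left,
        pl_add_left, pl_smul_left, pl_smul_left, pl_smul_left]
      convert ht using 1; ring
  have key : ∀ e f z : ι → F, XFrame Q P e f z → polar ⇑Q f x1 ≠ 0 →
      (polar ⇑Q f y ≠ 0 ∨ polar ⇑Q z y ≠ 0) →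
      ∃ h ∈ Omega F ⇑Q, (∀ p ∈ P, ap h p = p) ∧ ap h x1 ∉ F ∙ y ∧ polar ⇑Q (ap h x1) y ≠ σ := by
    intro e f z hF ha hy'
    obtain ⟨α, hα⟩ : ∃ α, α = polar ⇑Q f x1 := ⟨_, rfl⟩
    rw [← hα] at ha
    have hfe : polar ⇑Q f e = 1 := by rw [pl_comm]; exact hF.hp.pf
    have hfz : ∀ t : F, polar ⇑Q f (t • z) = 0 := fun t => by rw [pl_smul_right, hF.fz, mul_zero]
    have hap : ∀ t : F, ap (eich Q f (t • z)) x1 =
        x1 + (t * α) • z - (t * polar ⇑Q z x1 + t * t * Q z * α) • f := fun t => by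
      rw [eich_ap hF.hp.qf (hfz t), pl_smul_left, Q_smul, ← hα]
      module
    have hfy : polar ⇑Q f y ≠ 0 ∨ polar ⇑Q f y = 0 ∧ polar ⇑Q z y ≠ 0 := by
      by_cases h : polar ⇑Q f y = 0
      · exact Or.inr ⟨h, hy'.resolve_left (fun h' => h' h)⟩
      · exact Or.inl h
    -- the polynomial of the product with `y`
    obtain ⟨μ, hμ⟩ : ∃ μ, μ = α / polar ⇑Q f y := ⟨_, rfl⟩
    obtain ⟨t, ht, ht'⟩ := exists_avoid S.five
      (a := polar ⇑Q x1 y - σ) (b := α * polar ⇑Q z y - polar ⇑Q z x1 * polar ⇑Q f y)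
      (c := -(Q z * α * polar ⇑Q f y))
      (a' := polar ⇑Q z x1 - μ * polar ⇑Q z y) (b' := 2 * Q z * α) (c' := 0)
      (fun h => by
        rcases hfy with h1 | ⟨h1, h2⟩
        · exact h1 ((mul_eq_zero.1 (neg_eq_zero.1 h.2.2)).resolve_left (mul_ne_zero hF.qz ha))
        · rw [h1, mul_zero, sub_zero] at h
          exact mul_ne_zero ha h2 h.2.1)
      (fun h => mul_ne_zero (mul_ne_zero S.two hF.qz) ha h.2.1)
    refine ⟨eich Q f (t • z), eich_mem_omega S _ _,
      fun p hp => eich_fix_P hF.mf (Submodule.smul_mem _ _ hF.mz) hp, fun h => ?_, fun h => ?_⟩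
    · obtain ⟨s, hs⟩ := Submodule.mem_span_singleton.1 h
      rw [hap] at hs
      have h1 := congrArg (polar ⇑Q f) hs
      have h2 := congrArg (polar ⇑Q z) hs
      simp only [pl_sub_right, pl_add_right, pl_smul_right, pl_self, hF.fz, hF.hp.qf, pl_comm Q z f,
        ← hα] at h1 h2
      have h1' : s * polar ⇑Q f y = α := by linear_combination h1
      have hne : polar ⇑Q f y ≠ 0 := fun h0 => ha (by rw [← h1', h0, mul_zero])
      have hsμ : s = μ := by rw [hμ, ← h1', mul_div_assoc, div_self hne, mul_one]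
      rw [hsμ] at h2
      exact ht' (by linear_combination -h2)
    · rw [hap, pl_sub_left, pl_add_left, pl_smul_left, pl_smul_left] at h
      exact ht (by linear_combination h)
  by_cases hy1 : polar ⇑Q f y = 0 ∧ polar ⇑Q z y = 0
  · refine key f e z hF.swap hex (Or.inl fun h => hy0 (hF.zero_of_orth hy h hy1.1 hy1.2))
  · exact key e f z hF hfx (by tauto)

end Cfsg.Agent.Orth.LineFive
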