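import Cfsg.Agent.Lib.Orth.LineFive.Frame

/-!
# The stabiliser of a non-degenerate line of `P(F^5)` is maximal in `Ω₅(q)`, `q ≥ 5` odd

* `omega_le_of_line` : overgroups of the stabiliser of a plane moving it contain `Ω`
* `exists_omega_move_plane` : the stabiliser is proper
-/

set_option autoImplicit false
set_option linter.unusedSectionVars false

namespace Cfsg.Agent.Orth.LineFive

open Cfsg Matrix Module
open QuadraticMap (polar)

variable {ι : Type} [Fintype ι] [DecidableEq ι] {F : Type*} [Field F] [Fintype F]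
variable {Q : QuadraticForm F (ι → F)} {P : Submodule F (ι → F)}
variable {N : Subgroup (IsoGrp Q)}

theorem exists_parts (S : Setting Q P) (v : ι → F) :
    ∃ p ∈ P, ∃ x ∈ perpSub Q P, p + x = v := exists_proj S.good.nd S.nd v

theorem eich_mem (S : Setting Q P) (hN : ∀ g, g ∈ Omega F ⇑Q → (∀ x ∈ P, ap g x ∈ P) → g ∈ N)
    {u w : ι → F} (hu : u ∈ perpSub Q P) (hw : w ∈ perpSub Q P) : eich Q u w ∈ N :=
  hN _ (eich_mem_omega S u w) fun x hx => by rw [eich_fix_P hu hw hx]; exact hx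

theorem exists_sq_ne_one (S : Setting Q P) : ∃ lam : F, lam ≠ 0 ∧ lam * lam ≠ 1 := by
  obtain ⟨t, h1, h2⟩ := exists_avoid S.five (a := (0 : F)) (b := 1) (c := 0) (a' := -1) (b' := 0)
    (c' := 1) (by simp) (by simp)
  exact ⟨t, by simpa using h1, fun h => h2 (by rw [h]; ring)⟩

/-- The elements of the pair group exchange scalings on a singular line. -/
theorem exists_line_scaler (S : Setting Q P) (hN : ∀ g, g ∈ Omega F ⇑Q → (∀ x ∈ P, ap g x ∈ P) → g ∈ N)
    {e f z : ι → F} (hF : XFrame Q P e f z) {u w : ι → F} (hu : Q u = 0) (huw : polar ⇑Q u w = 0)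
    (hpair : ∀ s : F, eich Q u (s • w) ∈ N) (heu : polar ⇑Q e u = 0) (hzu : polar ⇑Q z u ≠ 0)
    (hew : polar ⇑Q e w ≠ 0) (lam : F) (hlam : lam ≠ 0) :
    ∃ h ∈ N, ap h e = lam • e ∧ ap h u = lam⁻¹ • u := by
  set δ := polar ⇑Q z u with hδ
  set γ := polar ⇑Q e w with hγ
  have hA : ∀ a : F, ∃ g ∈ N, ap g e = e ∧ ap g u = u + a • e := fun a => by
    have h1 : polar ⇑Q e ((-a / δ) • z) = 0 := by rw [pl_smul_right, hF.ez, mul_zero]
    refine ⟨_, eich_mem S hN hF.me (Submodule.smul_mem _ (-a / δ) hF.mz), ?_, ?_⟩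
    · rw [eich_ap hF.hp.qe h1, pl_self, hF.hp.qe, pl_smul_left, pl_comm Q z e, hF.ez]; simp
    · rw [eich_ap hF.hp.qe h1, heu, pl_smul_left, ← hδ, div_mul_cancel₀ _ hzu]
      module
  have hB : ∀ b : F, ∃ g ∈ N, ap g e = e + b • u ∧ ap g u = u := fun b => by
    have h1 : polar ⇑Q u ((-b / γ) • w) = 0 := by rw [pl_smul_right, huw, mul_zero]
    refine ⟨_, hpair (-b / γ), ?_, ?_⟩
    · rw [eich_ap hu h1, pl_comm Q u e, heu, pl_smul_left, pl_comm Q w e, ← hγ,
        div_mul_cancel₀ _ hew]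
      module
    · rw [eich_ap hu h1, pl_self, hu, pl_smul_left, pl_comm Q w u, huw]; simp
  obtain ⟨A, hA1, hAe, hAu⟩ := hA lam
  obtain ⟨B, hB1, hBe, hBu⟩ := hB (-lam⁻¹)
  obtain ⟨C, hC1, hCe, hCu⟩ := hA (-1)
  obtain ⟨D, hD1, hDe, hDu⟩ := hB 1
  refine ⟨A * B * A * (C * D * C),
    mul_mem (mul_mem (mul_mem hA1 hB1) hA1) (mul_mem (mul_mem hC1 hD1) hC1), ?_, ?_⟩
  · simp only [ap_mul, hAe, hAu, hBe, hBu, hCe, hCu, hDe, hDu, map_add, map_smul, smul_add,
      smul_smul]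
    match_scalars <;> field_simp <;> ring
  · simp only [ap_mul, hAe, hAu, hBe, hBu, hCe, hCu, hDe, hDu, map_add, map_smul, smul_add,
      smul_smul]
    match_scalars <;> field_simp <;> ring

/-- One pair in the right position gives `Ω`. -/
theorem omega_le_of_pair (S : Setting Q P)
    (hN : ∀ g, g ∈ Omega F ⇑Q → (∀ x ∈ P, ap g x ∈ P) → g ∈ N) {e f z : ι → F}
    (hF : XFrame Q P e f z) {u w : ι → F} (hu : Q u = 0) (huw : polar ⇑Q u w = 0) (hQw : Q w ≠ 0)
    (hpair : ∀ s : F, eich Q u (s • w) ∈ N) (heu : polar ⇑Q e u = 0) (hzu : polar ⇑Q z u ≠ 0)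
    (huX : u ∉ perpSub Q P) : Omega F ⇑Q ≤ N := by
  classical
  set X := perpSub Q P with hXd
  have hqe := hF.hp.qe
  let T : Submodule F (ι → F) :=
    { carrier := {v | polar ⇑Q e v = 0 ∧ ∀ s : F, eich Q e (s • v) ∈ N}
      zero_mem' := ⟨pl_zero_right _ _, fun s => by rw [smul_zero, eich_zero]; exact one_mem _⟩
      add_mem' := fun {a b} ha hb => ⟨by rw [pl_add_right, ha.1, hb.1, add_zero], fun s => by
        rw [smul_add, ← eich_add hqe (by rw [pl_smul_right, ha.1, mul_zero])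
          (by rw [pl_smul_right, hb.1, mul_zero])]
        exact mul_mem (ha.2 s) (hb.2 s)⟩
      smul_mem' := fun c a ha => ⟨by rw [pl_smul_right, ha.1, mul_zero], fun s => by
        rw [smul_smul]; exact ha.2 _⟩ }
  have hTmem : ∀ v, v ∈ T ↔ polar ⇑Q e v = 0 ∧ ∀ s : F, eich Q e (s • v) ∈ N := fun v => Iff.rfl
  have hTX : ∀ v ∈ X, polar ⇑Q e v = 0 → v ∈ T := fun v hv hev =>
    (hTmem v).2 ⟨hev, fun s => eich_mem S hN hF.me (X.smul_mem _ hv)⟩
  have hee : polar ⇑Q e e = 0 := by rw [pl_self, hqe, mul_zero]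
  -- a conjugate leaves `T` invariant
  have hconj : ∀ (g : IsoGrp Q) (c : F), g ∈ N → c ≠ 0 → ap g e = c • e → ∀ v ∈ T, ap g v ∈ T := by
    intro g c hg hc hge v hv
    refine (hTmem _).2 ⟨?_, fun s => ?_⟩
    · have h1 : polar ⇑Q (ap g e) (ap g v) = 0 := by rw [polar_ap, hv.1]
      rw [hge, pl_smul_left] at h1
      exact (mul_eq_zero.1 h1).resolve_left hc
    · have h1 := mul_mem (mul_mem hg (hv.2 (s / c))) (inv_mem hg)
      rw [conj_eich, hge, map_smul, eich_smul_left, smul_smul, mul_div_cancel₀ _ hc] at h1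
      exact h1
  -- a member of `T` outside `X`
  obtain ⟨v, hvT, hvX⟩ : ∃ v ∈ T, v ∉ X := by
    by_cases hew : polar ⇑Q e w = 0
    · by_contra! hall
      have hcv : ∀ c : F, ap (eich Q u (c • w)) z ∈ T := fun c => by
        refine hconj _ 1 (hpair c) one_ne_zero ?_ z (hTX z hF.mz hF.ez)
        rw [eich_ap hu (by rw [pl_smul_right, huw, mul_zero]), pl_comm Q u e, heu, pl_smul_left,
          pl_comm Q w e, hew]
        simp
      have h1 := hall _ (hcv 1)
      have h2 := hall _ (hcv (-1))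
      rw [eich_ap hu (by rw [pl_smul_right, huw, mul_zero]), pl_smul_left, Q_smul, pl_comm Q u z] at h1 h2
      have h3 := X.sub_mem (X.add_mem h1 h2) (X.add_mem hF.mz hF.mz)
      have h4 : (-(2 * Q w * polar ⇑Q z u)) • u ∈ X := by
        convert h3 using 1
        module
      exact huX ((Submodule.smul_mem_iff _ (neg_ne_zero.2 (mul_ne_zero (mul_ne_zero S.two hQw) hzu))).1 h4)
    · obtain ⟨lam, hl0, hl1⟩ := exists_sq_ne_one S
      obtain ⟨h, hh, hhe, hhu⟩ := exists_line_scaler S hN hF hu huw hpair heu hzu hew lam hl0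
      refine ⟨ap h z, hconj h lam hh hl0 hhe z (hTX z hF.mz hF.ez), fun hX => ?_⟩
      have h1 : polar ⇑Q e (ap h z) = 0 := (hconj h lam hh hl0 hhe z (hTX z hF.mz hF.ez)).1
      have hd := hF.dec _ hX
      rw [h1, zero_smul, add_zero] at hd
      obtain ⟨α, hα⟩ : ∃ α, α = polar ⇑Q z (ap h z) / (2 * Q z) := ⟨_, rfl⟩
      rw [← hα] at hd
      have hQ1 := Q_ap h z
      rw [hd, Q_add, Q_smul, Q_smul, hqe, pl_smul_left, pl_smul_right, hF.ez] at hQ1
      have hα2 : α * α = 1 := mul_right_cancel₀ hF.qz (by linear_combination hQ1)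
      have hp := polar_ap h z u
      rw [hd, hhu, pl_add_left, pl_smul_left, pl_smul_left, pl_smul_right, pl_smul_right, heu] at hp
      have hαl : α = lam := mul_right_cancel₀ hzu (by field_simp at hp; linear_combination hp)
      exact hl1 (hαl ▸ hα2)
  -- so `T` contains `e^⊥`
  obtain ⟨p, hpP, x, hxX, hpx⟩ := exists_parts S v
  have hp0 : p ≠ 0 := fun h => hvX (by rw [← hpx, h, zero_add]; exact hxX)
  have hpT : p ∈ T := by
    have hex : polar ⇑Q e x = 0 := by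
      have h1 := hvT.1
      rwa [← hpx, pl_add_right, pl_XP hF.me hpP, zero_add] at h1
    rw [show p = v - x by rw [← hpx]; abel]
    exact T.sub_mem hvT (hTX x hxX hex)
  obtain ⟨a, ha, ha0, hap, han⟩ := exists_move_vec S hpP hp0
  obtain ⟨g, hg, hgP, c, hc, hge⟩ := hF.exists_refl_lift S ha ha0
  have hp2 : ap (refl Q a) p ∈ T := by
    rw [← hgP p hpP]
    exact hconj g c (hN g hg fun y hy => by rw [hgP y hy]; exact refl_ap_mem ha hy) hc hge p hpT
  have hPT : P ≤ T := by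
    have hlt : (F ∙ p) < (F ∙ p) ⊔ (F ∙ ap (refl Q a) p) := lt_of_le_of_ne le_sup_left fun he =>
      refl_move ha0 hap han (he ▸ Submodule.mem_sup_right (Submodule.mem_span_singleton_self _))
    have h2 := Submodule.finrank_lt_finrank_of_lt hlt
    rw [finrank_span_singleton hp0] at h2
    have hle : (F ∙ p) ⊔ (F ∙ ap (refl Q a) p) ≤ P := sup_le
      ((Submodule.span_singleton_le_iff_mem _ _).2 hpP)
      ((Submodule.span_singleton_le_iff_mem _ _).2 (refl_ap_mem ha hpP))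
    rw [← Submodule.eq_of_le_of_finrank_le hle (by rw [S.plane]; omega)]
    exact sup_le ((Submodule.span_singleton_le_iff_mem _ _).2 hpT)
      ((Submodule.span_singleton_le_iff_mem _ _).2 hp2)
  have hall : ∀ y, polar ⇑Q e y = 0 → eich Q e y ∈ N := fun y hy => by
    obtain ⟨q, hq, r, hr, rfl⟩ := exists_parts S y
    have : q + r ∈ T := T.add_mem (hPT hq) (hTX r hr (by
      rwa [pl_add_right, pl_XP hF.me hq, zero_add] at hy))
    simpa using this.2 1
  obtain ⟨k, hk, hkP, hke, hkf, -⟩ := hF.exists_flip S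
  have hkN : k ∈ N := hN k hk fun y hy => by rw [hkP y hy]; exact hy
  rw [omega_eq_eichPair S.good (by rw [S.dim]; omega) (.inr (by rw [S.dim])) hF.hp, eichPair,
    Subgroup.closure_le]
  rintro _ ⟨y, hy, rfl | rfl⟩
  · exact hall y (mem_perp.1 hy).1
  · have hc0 : (-(Q z)⁻¹) ≠ 0 := neg_ne_zero.2 (inv_ne_zero hF.qz)
    have h1 : polar ⇑Q e ((-(Q z)⁻¹)⁻¹ • ap k⁻¹ y) = 0 := by
      rw [pl_smul_right, ← polar_ap k, ap_ap_inv, hke, pl_smul_left, (mem_perp.1 hy).2, mul_zero,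
        mul_zero]
    have h2 := mul_mem (mul_mem hkN (hall _ h1)) (inv_mem hkN)
    rwa [conj_eich, hke, map_smul, ap_ap_inv, eich_smul_left, smul_smul, mul_inv_cancel₀ hc0,
      one_smul] at h2

/-- An element moving `P` generally gives `Ω`. -/
theorem omega_le_of_general (S : Setting Q P)
    (hN : ∀ g, g ∈ Omega F ⇑Q → (∀ x ∈ P, ap g x ∈ P) → g ∈ N) {g : IsoGrp Q} (hg : g ∈ N)
    (h1 : ∀ p ∈ P, ap g p ∈ P → p = 0) {p0 q0 : ι → F} (hp0 : p0 ∈ P) (hq0 : q0 ∈ P)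
    (hpq : polar ⇑Q (ap g p0) q0 ≠ 0) : Omega F ⇑Q ≤ N := by
  classical
  set X := perpSub Q P with hXd
  set A := X.comap (ap g) with hA
  -- the vectors of `X` staying in `X`
  have hdim : ∀ v ∈ X ⊓ A, v ≠ 0 → ∀ x ∈ X ⊓ A, x ∈ F ∙ v := by
    intro v hv hv0 x hx
    by_contra hxv
    -- `P + g⁻¹P` is orthogonal to both
    let G := P.map (ap g⁻¹)
    have hG : finrank F G = 2 := by
      rw [(Submodule.equivMapOfInjective (ap g⁻¹) (fun a b h => ap_inj g⁻¹ h) P).finrank_eq.symm, S.plane]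
    have hdis : P ⊓ G = ⊥ := by
      rw [eq_bot_iff]
      rintro y ⟨hy, q, hq, rfl⟩
      exact (Submodule.mem_bot F).2 (h1 _ hy (by rw [ap_ap_inv]; exact hq))
    have hs := Submodule.finrank_sup_add_finrank_inf_eq P G
    rw [hdis, finrank_bot, hG, S.plane] at hs
    have hle : P ⊔ G ≤ perpSub Q (X ⊓ A) := sup_le
      (fun q hq => mem_perpSub.2 fun y hy => pl_XP hy.1 hq) (by
        rintro _ ⟨q, hq, rfl⟩
        refine mem_perpSub.2 fun y hy => ?_
        rw [← polar_ap g, ap_ap_inv]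
        exact pl_XP hy.2 hq)
    have h4 := Submodule.finrank_mono hle
    rw [finrank_perpSub S.good.nd, S.dim] at h4
    have hlt : (F ∙ v) < X ⊓ A := lt_of_le_of_ne ((Submodule.span_singleton_le_iff_mem _ _).2 hv)
      fun h => hxv (h ▸ hx)
    have h5 := Submodule.finrank_lt_finrank_of_lt hlt
    rw [finrank_span_singleton hv0] at h5
    omega
  obtain ⟨z1, hz1, hz10⟩ : ∃ z1 ∈ X ⊓ A, z1 ≠ 0 := by
    by_contra! hall
    have h3 : finrank F A = 3 := by
      have hA' : A = X.map (ap g⁻¹) := by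
        ext y
        simp only [hA, Submodule.mem_comap, Submodule.mem_map]
        exact ⟨fun h => ⟨_, h, ap_inv_ap g y⟩, by rintro ⟨q, hq, rfl⟩; rwa [ap_ap_inv]⟩
      rw [hA', (Submodule.equivMapOfInjective (ap g⁻¹) (fun a b h => ap_inj g⁻¹ h) X).finrank_eq.symm,
        S.perp_dim]
    have hs := Submodule.finrank_sup_add_finrank_inf_eq X A
    rw [(Submodule.eq_bot_iff _).2 hall, finrank_bot, S.perp_dim, h3] at hs
    have hl := Submodule.finrank_le (X ⊔ A)
    rw [finrank_space, S.dim] at hl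
    omega
  -- the vectors of `X` going to `P`
  obtain ⟨z2, hz2X, hz20, hz2⟩ : ∃ z2 ∈ X, z2 ≠ 0 ∧ ∀ x ∈ X, ap g x ∈ P → x ∈ F ∙ z2 := by
    by_cases hex : ∃ x ∈ X, ap g x ∈ P ∧ x ≠ 0
    · obtain ⟨z2, hz2, hgz2, hz20⟩ := hex
      refine ⟨z2, hz2, hz20, fun x hx hgx => ?_⟩
      by_contra hxz
      let B := X ⊓ P.comap (ap g)
      have hlt : (F ∙ z2) < B := lt_of_le_of_ne
        ((Submodule.span_singleton_le_iff_mem _ _).2 ⟨hz2, hgz2⟩) fun h => hxz (h ▸ ⟨hx, hgx⟩)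
      have h5 := Submodule.finrank_lt_finrank_of_lt hlt
      rw [finrank_span_singleton hz20] at h5
      have hBg : B.map (ap g) ≤ P := by rintro _ ⟨y, hy, rfl⟩; exact hy.2
      have hBP : B.map (ap g) = P := Submodule.eq_of_le_of_finrank_le hBg (by
        rw [(Submodule.equivMapOfInjective (ap g) (fun a b h => ap_inj g h) B).finrank_eq.symm, S.plane]
        omega)
      obtain ⟨y, hy, hgy⟩ := hBP.ge hq0
      rw [← hgy, polar_ap, pl_PX hp0 hy.1] at hpq
      exact hpq rfl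
    · push Not at hex
      exact ⟨z1, hz1.1, hz10, fun x hx hgx => by rw [hex x hx hgx]; exact Submodule.zero_mem _⟩
  -- a tangent avoiding both
  obtain ⟨e0, he0X, he00, hQe0, het1, het2⟩ := exists_isotropic_two S hz1.1 hz2X hz10 hz20
  obtain ⟨f0, z0, hF0⟩ := exists_xframe S he0X he00 hQe0
  set u' := ap g e0 with hu'
  set w' := ap g z0 with hw'
  have hindep : ∀ α β : F, (ap g (α • e0 + β • z0) ∈ X ∨ ap g (α • e0 + β • z0) ∈ P) →
      α = 0 ∧ β = 0 := by
    intro α β h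
    set y := α • e0 + β • z0 with hy
    have hyX : y ∈ X := X.add_mem (X.smul_mem _ he0X) (X.smul_mem _ hF0.mz)
    have hye : polar ⇑Q e0 y = 0 := by
      rw [hy, pl_add_right, pl_smul_right, pl_smul_right, pl_self, hQe0, hF0.ez]; ring
    have hy0 : y = 0 := by
      by_contra h0
      obtain ⟨m, hm, hyi⟩ : ∃ m, polar ⇑Q e0 m ≠ 0 ∧ y ∈ F ∙ m := by
        rcases h with h | h
        · exact ⟨z1, het1, hdim z1 hz1 hz10 y ⟨hyX, h⟩⟩
        · exact ⟨z2, het2, hz2 y hyX h⟩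
      obtain ⟨s, hs⟩ := Submodule.mem_span_singleton.1 hyi
      rw [← hs, pl_smul_right, mul_eq_zero] at hye
      exact h0 (by rw [← hs, hye.resolve_right hm, zero_smul])
    have hb := congrArg (polar ⇑Q z0) hy0
    rw [hy, pl_add_right, pl_smul_right, pl_smul_right, pl_self, pl_comm Q z0 e0, hF0.ez,
      pl_zero_right] at hb
    have hβ : β = 0 := by
      have : β * (2 * Q z0) = 0 := by linear_combination hb
      exact (mul_eq_zero.1 this).resolve_right (mul_ne_zero S.two hF0.qz)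
    refine ⟨?_, hβ⟩
    rw [hy, hβ, zero_smul, add_zero, smul_eq_zero] at hy0
    exact hy0.resolve_right he00
  have hu'0 : Q u' = 0 := by rw [hu', Q_ap, hQe0]
  have huw' : polar ⇑Q u' w' = 0 := by rw [hu', hw', polar_ap, hF0.ez]
  have hQw' : Q w' ≠ 0 := by rw [hw', Q_ap]; exact hF0.qz
  have hE : ∀ s : F, eich Q u' (s • w') ∈ N := fun s => by
    have := mul_mem (mul_mem hg (eich_mem S hN he0X (X.smul_mem s hF0.mz))) (inv_mem hg)
    rwa [conj_eich, map_smul] at this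
  obtain ⟨πu, hπu, mu, hmu, hum⟩ := exists_parts S u'
  obtain ⟨πw, hπw, mw, hmw, hwm⟩ := exists_parts S w'
  have hπind : ∀ α β : F, α • πu + β • πw = 0 → α = 0 ∧ β = 0 := fun α β h => hindep α β (.inl (by
    rw [map_add, map_smul, map_smul, ← hu', ← hw', ← hum, ← hwm,
      show α • (πu + mu) + β • (πw + mw) = (α • πu + β • πw) + (α • mu + β • mw) by module, h, zero_add]
    exact X.add_mem (X.smul_mem _ hmu) (X.smul_mem _ hmw)))
  have hπu0 : πu ≠ 0 := fun h => one_ne_zero (hπind 1 0 (by simp [h])).1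
  -- a point of `P` of the right class, off `πu`
  obtain ⟨p, hp, hQp, hpu⟩ : ∃ p ∈ P, Q p = -Q z0 ∧ p ∉ F ∙ πu := by
    obtain ⟨p, hp, hQp⟩ := exists_Q_eq_in (Q := Q) P S.nd (by rw [S.plane]) (-Q z0)
    have hp0' : p ≠ 0 := fun h => neg_ne_zero.2 hF0.qz (by rw [← hQp, h, QuadraticMap.map_zero])
    obtain ⟨h, -, hhP, hhp⟩ := exists_moveP S hp hp0' hπu0
    exact ⟨_, hhP p hp, by rw [Q_ap, hQp], hhp⟩
  obtain ⟨α, β, hpab⟩ : ∃ α β : F, β • πu + α • πw = p := by
    have hlt : (F ∙ πu) < (F ∙ πu) ⊔ (F ∙ πw) := lt_of_le_of_ne le_sup_left fun he => by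
      obtain ⟨c, hc⟩ := Submodule.mem_span_singleton.1
        (he ▸ Submodule.mem_sup_right (Submodule.mem_span_singleton_self πw) : πw ∈ F ∙ πu)
      exact one_ne_zero (neg_eq_zero.1 (hπind c (-1) (by rw [hc, neg_smul, one_smul, add_neg_cancel])).2)
    have h2 := Submodule.finrank_lt_finrank_of_lt hlt
    rw [finrank_span_singleton hπu0] at h2
    have hle : (F ∙ πu) ⊔ (F ∙ πw) ≤ P := sup_le
      ((Submodule.span_singleton_le_iff_mem _ _).2 hπu) ((Submodule.span_singleton_le_iff_mem _ _).2 hπw)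
    rw [← Submodule.eq_of_le_of_finrank_le hle (by rw [S.plane]; omega)] at hp
    obtain ⟨_, hy1, _, hy2, hpe⟩ := Submodule.mem_sup.1 hp
    obtain ⟨β, rfl⟩ := Submodule.mem_span_singleton.1 hy1
    obtain ⟨α, rfl⟩ := Submodule.mem_span_singleton.1 hy2
    exact ⟨α, β, hpe⟩
  have hα : α ≠ 0 := fun h => hpu (Submodule.mem_span_singleton.2 ⟨β, by
    rw [← hpab, h, zero_smul, add_zero]⟩)
  obtain ⟨s0, hs0⟩ : ∃ s0, s0 = -β / α := ⟨_, rfl⟩
  have hmu0 : mu ≠ 0 := fun h => one_ne_zero (hindep 1 0 (.inr (by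
    rw [one_smul, zero_smul, add_zero, ← hu', ← hum, h, add_zero]; exact hπu))).1
  have hm0 : mw - s0 • mu ≠ 0 := fun h => one_ne_zero (hindep (-s0) 1 (.inr (by
    rw [map_add, map_smul, map_smul, ← hu', ← hw', ← hum, ← hwm,
      show -s0 • (πu + mu) + (1 : F) • (πw + mw) = (πw - s0 • πu) + (mw - s0 • mu) by module, h,
      add_zero]
    exact P.sub_mem hπw (P.smul_mem _ hπu)))).2
  obtain ⟨u, huX, hu0', hQu, hum1, hum2⟩ :=
    exists_isotropic_two S hmu (X.sub_mem hmw (X.smul_mem s0 hmu)) hmu0 hm0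
  obtain ⟨fu, zu, hFu⟩ := exists_xframe S huX hu0' hQu
  obtain ⟨β', hβ'⟩ : ∃ b, b = polar ⇑Q u u' := ⟨_, rfl⟩
  obtain ⟨γ', hγ'⟩ : ∃ b, b = polar ⇑Q u w' := ⟨_, rfl⟩
  have hb0 : β' ≠ 0 := by rwa [hβ', ← hum, pl_add_right, pl_XP huX hπu, zero_add]
  have hgam : γ' - s0 * β' ≠ 0 := by
    rw [pl_sub_right, pl_smul_right] at hum2
    rwa [hβ', hγ', ← hum, ← hwm, pl_add_right, pl_add_right, pl_XP huX hπu, pl_XP huX hπw,
      zero_add, zero_add]
  obtain ⟨c, hc⟩ : ∃ c, c = (s0 - γ' / β') / Q w' := ⟨_, rfl⟩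
  have hc0 : c ≠ 0 := by
    rw [hc]
    refine div_ne_zero (fun h => hgam ?_) hQw'
    field_simp at h
    linear_combination -h
  have hcs : γ' + c * Q w' * β' = s0 * β' := by rw [hc]; field_simp; ring
  set E := eich Q u' (c • w') with hEdef
  have hEu : ap E u = u + (c * β') • (w' - s0 • u') := by
    rw [hEdef, eich_ap hu'0 (by rw [pl_smul_right, huw', mul_zero]), pl_smul_left, Q_smul,
      pl_comm Q u' u, pl_comm Q w' u, ← hβ', ← hγ',
      show c * γ' + c * c * Q w' * β' = c * (s0 * β') by rw [← hcs]; ring]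
    module
  set u2 := ap E u with hu2d
  obtain ⟨x2, hx2⟩ : ∃ x2, x2 = u + (c * β') • (mw - s0 • mu) := ⟨_, rfl⟩
  have hx2X : x2 ∈ X := hx2 ▸ X.add_mem huX (X.smul_mem _ (X.sub_mem hmw (X.smul_mem _ hmu)))
  have hsplit : u2 = (c * β' / α) • p + x2 := by
    rw [hEu, hx2, ← hum, ← hwm, hs0, ← hpab]
    match_scalars <;> field_simp
  obtain ⟨m, hm⟩ : ∃ m, m = c * β' / α := ⟨_, rfl⟩
  rw [← hm] at hsplit
  have hm0' : m ≠ 0 := hm ▸ div_ne_zero (mul_ne_zero hc0 hb0) hα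
  have hQx2 : Q x2 = m * m * Q z0 := by
    have h2 := Q_ap E u
    rw [← hu2d, hsplit, Q_add, Q_smul, pl_smul_left, pl_PX hp hx2X, hQp, hQu] at h2
    linear_combination h2
  have hy : Q (m⁻¹ • x2) = Q z0 := by rw [Q_smul, hQx2]; field_simp
  obtain ⟨h, hh, hhP, hhz⟩ := x_transit S hF0.mz (X.smul_mem m⁻¹ hx2X) hy hF0.qz
  have hF := hF0.map S (fun q hq => by rw [hhP q hq]; exact hq) (h := h)
  refine omega_le_of_pair S hN hF (u := u2) (w := ap E zu) (by rw [hu2d, Q_ap, hQu])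
    (by rw [hu2d, polar_ap, hFu.ez]) (by rw [Q_ap]; exact hFu.qz) (fun s => ?_) ?_ ?_ ?_
  · have h1 := mul_mem (mul_mem (hE c) (eich_mem S hN huX (X.smul_mem s hFu.mz))) (inv_mem (hE c))
    rwa [← hEdef, conj_eich, ← hu2d, map_smul] at h1
  · have hx : x2 = m • ap h z0 := by rw [hhz, smul_inv_smul₀ hm0']
    rw [hsplit, pl_add_right, pl_smul_right, pl_XP hF.me hp, hx, pl_smul_right, hF.ez]; ring
  · have hx : x2 = m • ap h z0 := by rw [hhz, smul_inv_smul₀ hm0']
    rw [hsplit, pl_add_right, pl_smul_right, pl_XP hF.mz hp, hx, pl_smul_right, pl_self, mul_zero,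
      zero_add]
    exact mul_ne_zero hm0' (mul_ne_zero S.two hF.qz)
  · intro hX
    rw [hsplit, Submodule.add_mem_iff_left _ hx2X] at hX
    have hpX := (Submodule.smul_mem_iff _ hm0').1 hX
    exact hF0.qz (neg_eq_zero.1 (by rw [← hQp, disjoint_perpSub S.nd hp hpX, QuadraticMap.map_zero]))

/-- An element moving one point of `P` inside and one outside. -/
theorem omega_le_of_adjacent (S : Setting Q P)
    (hN : ∀ g, g ∈ Omega F ⇑Q → (∀ x ∈ P, ap g x ∈ P) → g ∈ N) {g : IsoGrp Q} (hg : g ∈ N)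
    {p0 p : ι → F} (hp0 : p0 ∈ P) (hp00 : p0 ≠ 0) (hgp0 : ap g p0 ∈ P) (hp : p ∈ P)
    (hgp : ap g p ∉ P) : Omega F ⇑Q ≤ N := by
  classical
  set X := perpSub Q P with hXd
  obtain ⟨e, he, x1, hx1, hgpe⟩ := exists_parts S (ap g p)
  have hx10 : x1 ≠ 0 := fun h => hgp (by rw [← hgpe, h, add_zero]; exact he)
  obtain ⟨q, hq, hgq⟩ : ∃ q ∈ P, ap g⁻¹ q ∉ P := by
    by_contra! hall
    refine hgp ?_
    have hle : P.map (ap g⁻¹) ≤ P := by rintro _ ⟨y, hy, rfl⟩; exact hall y hy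
    have heq := Submodule.eq_of_le_of_finrank_le hle (by
      rw [(Submodule.equivMapOfInjective (ap g⁻¹) (fun a b h => ap_inj g⁻¹ h) P).finrank_eq.symm])
    obtain ⟨y, hy, hyp⟩ := heq.ge hp
    rw [← hyp, ap_ap_inv]; exact hy
  obtain ⟨e', he', x0, hx0, hgqe⟩ := exists_parts S (ap g⁻¹ q)
  have hx00 : x0 ≠ 0 := fun h => hgq (by rw [← hgqe, h, add_zero]; exact he')
  have hq00 : ap g p0 ≠ 0 := fun h => hp00 (ap_inj g (h.trans (map_zero _).symm))
  obtain ⟨h1, hh1, hh1P, hh1p⟩ := exists_moveP S hgp0 hq00 hp00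
  have hh1X := map_perp_of_map S hh1P
  obtain ⟨h2, hh2, hh2P, hh2x, hh2y⟩ := exists_moveX S (hh1X x1 hx1)
    (fun h => hx10 (ap_inj h1 (h.trans (map_zero _).symm))) hx0 hx00 (-polar ⇑Q (ap h1 e) e')
  set h := h2 * h1 with hh
  have hhP : ∀ y ∈ P, ap h y = ap h1 y := fun y hy => by rw [hh, ap_mul, hh2P _ (hh1P y hy)]
  have hhN : h ∈ N := hN h (mul_mem hh2 hh1) fun y hy => by rw [hhP y hy]; exact hh1P y hy
  have hhX : ∀ y ∈ X, ap h y ∈ X := map_perp_of_map S fun y hy => by rw [hhP y hy]; exact hh1P y hy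
  have hmem : g * h * g ∈ N := mul_mem (mul_mem hg hhN) hg
  have hp0p : p ∉ F ∙ p0 := fun hm => hgp (by
    obtain ⟨c, rfl⟩ := Submodule.mem_span_singleton.1 hm
    rw [map_smul]; exact P.smul_mem _ hgp0)
  have hspan : ∀ y ∈ P, ∀ {v : ι → F}, v ∈ P → v ∉ F ∙ p0 → ∃ a b : F, y = a • p0 + b • v := by
    intro y hy v hv hvn
    have hlt : (F ∙ p0) < (F ∙ p0) ⊔ (F ∙ v) := lt_of_le_of_ne le_sup_left fun he =>
      hvn (he ▸ Submodule.mem_sup_right (Submodule.mem_span_singleton_self v))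
    have h2 := Submodule.finrank_lt_finrank_of_lt hlt
    rw [finrank_span_singleton hp00] at h2
    have hle : (F ∙ p0) ⊔ (F ∙ v) ≤ P := sup_le ((Submodule.span_singleton_le_iff_mem _ _).2 hp0)
      ((Submodule.span_singleton_le_iff_mem _ _).2 hv)
    rw [← Submodule.eq_of_le_of_finrank_le hle (by rw [S.plane]; omega)] at hy
    obtain ⟨_, hy1, _, hy2, hye⟩ := Submodule.mem_sup.1 hy
    obtain ⟨a, rfl⟩ := Submodule.mem_span_singleton.1 hy1
    obtain ⟨b, rfl⟩ := Submodule.mem_span_singleton.1 hy2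
    exact ⟨a, b, hye.symm⟩
  have hhgp : ap h (ap g p) = ap h1 e + ap h2 (ap h1 x1) := by
    rw [← hgpe, map_add, hhP e he, hh, ap_mul]
  refine omega_le_of_general S hN hmem ?_ hp hq ?_
  · intro y hy hgy
    obtain ⟨a, b, rfl⟩ := hspan y hy hp hp0p
    obtain ⟨v, hv⟩ : ∃ v, v = ap g⁻¹ q := ⟨_, rfl⟩
    rw [← hv] at hgq hgqe
    -- the preimage under `g` lies in `g⁻¹ P`
    set r := ap g (ap h (ap g (a • p0 + b • p))) with hr
    have hrP : r ∈ P := by rw [hr]; simpa only [ap_mul] using hgy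
    obtain ⟨c, d, hcd⟩ : ∃ c d : F, r = c • ap g p0 + d • q := by
      have hqn : q ∉ F ∙ ap g p0 := fun hm => hgq (by
        obtain ⟨s, rfl⟩ := Submodule.mem_span_singleton.1 hm
        rw [hv, map_smul, ap_inv_ap]; exact P.smul_mem _ hp0)
      have hlt : (F ∙ ap g p0) < (F ∙ ap g p0) ⊔ (F ∙ q) := lt_of_le_of_ne le_sup_left fun he =>
        hqn (he ▸ Submodule.mem_sup_right (Submodule.mem_span_singleton_self q))
      have h2 := Submodule.finrank_lt_finrank_of_lt hlt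
      rw [finrank_span_singleton hq00] at h2
      have hle : (F ∙ ap g p0) ⊔ (F ∙ q) ≤ P := sup_le
        ((Submodule.span_singleton_le_iff_mem _ _).2 hgp0) ((Submodule.span_singleton_le_iff_mem _ _).2 hq)
      rw [← Submodule.eq_of_le_of_finrank_le hle (by rw [S.plane]; omega)] at hrP
      obtain ⟨_, hy1, _, hy2, hye⟩ := Submodule.mem_sup.1 hrP
      obtain ⟨c, rfl⟩ := Submodule.mem_span_singleton.1 hy1
      obtain ⟨d, rfl⟩ := Submodule.mem_span_singleton.1 hy2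
      exact ⟨c, d, hye.symm⟩
    have heq : ap h (ap g (a • p0 + b • p)) = c • p0 + d • v := ap_inj g (by
      rw [← hr, hcd, map_add, map_smul, map_smul, hv, ap_ap_inv])
    rw [map_add, map_smul, map_smul, map_add, map_smul, map_smul, hhgp, hhP _ hgp0, ← hgqe] at heq
    have hdiff : (a • ap h1 (ap g p0) + b • ap h1 e - c • p0 - d • e') +
        (b • ap h2 (ap h1 x1) - d • x0) = 0 := by linear_combination (norm := module) heq
    have hPpart : a • ap h1 (ap g p0) + b • ap h1 e - c • p0 - d • e' ∈ P :=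
      P.sub_mem (P.sub_mem (P.add_mem (P.smul_mem _ (hh1P _ hgp0)) (P.smul_mem _ (hh1P _ he)))
        (P.smul_mem _ hp0)) (P.smul_mem _ he')
    have hXpart : b • ap h2 (ap h1 x1) - d • x0 ∈ X := X.sub_mem (X.smul_mem _
      (map_perp_of_map S (fun y hy => by rw [hh2P y hy]; exact hy) _ (hh1X x1 hx1))) (X.smul_mem _ hx0)
    have hX0 : b • ap h2 (ap h1 x1) - d • x0 = 0 := by
      refine disjoint_perpSub S.nd ?_ hXpart
      rw [eq_neg_of_add_eq_zero_right hdiff]; exact P.neg_mem hPpart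
    have hb : b = 0 := by
      by_contra hb
      refine hh2x (Submodule.mem_span_singleton.2 ⟨b⁻¹ * d, ?_⟩)
      rw [mul_smul, ← sub_eq_zero.1 hX0, inv_smul_smul₀ hb]
    rw [hb, zero_smul, zero_sub, neg_eq_zero, smul_eq_zero] at hX0
    have hd : d = 0 := hX0.resolve_right hx00
    rw [hb, hd] at hdiff
    simp only [zero_smul, add_zero, sub_zero, zero_sub, neg_zero] at hdiff
    have ha : a = 0 := by
      by_contra ha
      refine hh1p (Submodule.mem_span_singleton.2 ⟨a⁻¹ * c, ?_⟩)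
      rw [mul_smul, ← sub_eq_zero.1 hdiff, inv_smul_smul₀ ha]
    simp [ha, hb]
  · rw [ap_mul, ap_mul, show q = ap g (e' + x0) by rw [hgqe, ap_ap_inv], polar_ap, hhgp,
      pl_add_left, pl_add_right, pl_add_right, pl_PX (hh1P _ he) hx0, pl_XP (map_perp_of_map S
        (fun y hy => by rw [hh2P y hy]; exact hy) _ (hh1X x1 hx1)) he']
    simp only [add_zero, zero_add]
    exact fun h0 => hh2y (eq_neg_of_add_eq_zero_right h0)

/-- Overgroups of the stabiliser of `P` moving `P` contain `Ω`. -/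
theorem omega_le_of_line (S : Setting Q P)
    (hN : ∀ g, g ∈ Omega F ⇑Q → (∀ x ∈ P, ap g x ∈ P) → g ∈ N) {g : IsoGrp Q} (hg : g ∈ N)
    {p : ι → F} (hp : p ∈ P) (hgp : ap g p ∉ P) : Omega F ⇑Q ≤ N := by
  classical
  by_cases hadj : ∃ p0 ∈ P, p0 ≠ 0 ∧ ap g p0 ∈ P
  · obtain ⟨p0, hp0, hp00, hgp0⟩ := hadj
    exact omega_le_of_adjacent S hN hg hp0 hp00 hgp0 hp hgp
  push Not at hadj
  by_cases hgen : ∃ a ∈ P, ∃ b ∈ P, polar ⇑Q (ap g a) b ≠ 0
  · obtain ⟨a, ha, b, hb, hab⟩ := hgen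
    exact omega_le_of_general S hN hg (fun y hy hgy => by
      by_contra h0; exact hadj y hy h0 hgy) ha hb hab
  push Not at hgen
  -- now `g` maps `P` into its orthogonal
  set X := perpSub Q P with hXd
  have himg : ∀ a ∈ P, ap g a ∈ X := fun a ha => mem_perpSub.2 fun b hb => by
    rw [pl_comm]; exact hgen a ha b hb
  set K' := P.map (ap g⁻¹) with hK'
  have hK'X : K' ≤ X := by
    rintro _ ⟨b, hb, rfl⟩
    refine mem_perpSub.2 fun a ha => ?_
    rw [← polar_ap g, ap_ap_inv]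
    exact hgen a ha b hb
  have hK'd : finrank F K' = 2 := by
    rw [(Submodule.equivMapOfInjective (ap g⁻¹) (fun a b h => ap_inj g⁻¹ h) P).finrank_eq.symm, S.plane]
  obtain ⟨y, hyX, hy0, hyK⟩ : ∃ y ∈ X, y ≠ 0 ∧ ∀ k ∈ K', polar ⇑Q k y = 0 := by
    by_contra! hall
    have hbot : X ⊓ perpSub Q K' = ⊥ := by
      rw [Submodule.eq_bot_iff]
      intro y hy
      by_contra h0
      obtain ⟨k, hk, hk0⟩ := hall y hy.1 h0
      exact hk0 (mem_perpSub.1 hy.2 k hk)
    have h1 := finrank_le_perp_inf S.good.nd X K'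
    rw [hbot, finrank_bot, S.perp_dim, hK'd] at h1
    omega
  have hp0 : p ≠ 0 := fun h => hgp (by rw [h, map_zero]; exact P.zero_mem)
  obtain ⟨h, hh, hhP, -, hhy⟩ := exists_moveX S (himg p hp)
    (fun h => hp0 (ap_inj g (h.trans (map_zero _).symm))) hyX hy0 0
  have hhN : h ∈ N := hN h hh fun v hv => by rw [hhP v hv]; exact hv
  have hmem : g * h * g ∈ N := mul_mem (mul_mem hg hhN) hg
  have hout : ap (g * h * g) p ∉ P := fun hm => hhy (by
    rw [← ap_inv_ap g (ap h (ap g p))]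
    exact hyK _ ⟨_, hm, by simp only [ap_mul]⟩)
  -- the two planes of `X` meet
  obtain ⟨v, hv, hv0⟩ : ∃ v ∈ (P.map (ap (h * g))) ⊓ K', v ≠ 0 := by
    by_contra! hall
    have h1 := Submodule.finrank_sup_add_finrank_inf_eq (P.map (ap (h * g))) K'
    rw [(Submodule.eq_bot_iff _).2 hall, finrank_bot, hK'd,
      (Submodule.equivMapOfInjective (ap (h * g)) (fun a b h' => ap_inj _ h') P).finrank_eq.symm,
      S.plane] at h1
    have hle : P.map (ap (h * g)) ⊔ K' ≤ X := sup_le (by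
      rintro _ ⟨a, ha, rfl⟩
      rw [ap_mul]
      exact map_perp_of_map S (fun v hv => by rw [hhP v hv]; exact hv) _ (himg a ha)) hK'X
    have h2 := Submodule.finrank_mono hle
    rw [S.perp_dim] at h2
    omega
  obtain ⟨⟨a, ha, hav⟩, ⟨b, hb, hbv⟩⟩ := hv
  refine omega_le_of_adjacent S hN hmem ha (fun h0 => hv0 (by rw [← hav, h0, map_zero])) ?_ hp hout
  rw [mul_assoc, ap_mul, hav, ← hbv, ap_ap_inv]
  exact hb

/-- Some element of `Ω` moves `P`. -/
theorem exists_omega_move_plane (S : Setting Q P) :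
    ∃ g ∈ Omega F ⇑Q, ∃ p ∈ P, ap g p ∉ P := by
  obtain ⟨a, ha, ha0⟩ := Submodule.exists_mem_ne_zero_of_ne_bot (fun h : P = ⊥ => by
    have := S.plane
    rw [h, finrank_bot] at this
    omega)
  obtain ⟨g, hg, z, hz, hz0, hgx⟩ := exists_omega_move S.good S.nd
    (by rw [S.plane, S.dim]) ha
  obtain ⟨y, hy, hay⟩ := S.nd a ha ha0
  refine ⟨g, hg, y, hy, fun hm => hz0 (disjoint_perpSub S.nd ?_ hz)⟩
  rw [hgx y hy, Submodule.sub_mem_iff_right _ hy, Submodule.smul_mem_iff _ hay,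
    Submodule.add_mem_iff_right _ ha] at hm
  exact hm

end Cfsg.Agent.Orth.LineFive
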